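import Mathlib

set_option autoImplicit false
set_option backward.isDefEq.respectTransparency false
set_option backward.defeqAttrib.useBackward true
set_option linter.style.haveILetI false

/-!
# Topological invariance of étale schemes: full faithfulness
-/

open CategoryTheory CategoryTheory.Limits AlgebraicGeometry

universe u

namespace Groth.Agent.TopInv

variable {X Y Z : Scheme.{u}}

theorem universallyInjective_of_precomp_surjective (a : X ⟶ Y) (b : Y ⟶ Z) [Surjective a]
    [UniversallyInjective (a ≫ b)] : UniversallyInjective b := by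
  rw [UniversallyInjective.iff_diagonal]
  refine ⟨fun w => ?_⟩
  have hw : b (pullback.fst b b w) = b (pullback.snd b b w) := by
    rw [← Scheme.Hom.comp_apply, pullback.condition, Scheme.Hom.comp_apply]
  let m : pullback (a ≫ b) (a ≫ b) ⟶ pullback b b :=
    pullback.map _ _ _ _ a a (𝟙 Z) (by simp) (by simp)
  haveI : Surjective m := MorphismProperty.pullbackMap (P := @Surjective) ‹Surjective a› ‹Surjective a› rfl rfl
  obtain ⟨v, rfl⟩ := m.surjective w
  obtain ⟨x, rfl⟩ := ((UniversallyInjective.iff_diagonal (a ≫ b)).mp ‹_›).surj v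
  refine ⟨a x, ?_⟩
  rw [← Scheme.Hom.comp_apply, ← Scheme.Hom.comp_apply]
  rw [show a ≫ pullback.diagonal b = pullback.diagonal (a ≫ b) ≫ m by
    apply pullback.hom_ext <;> simp [m]]

theorem isIso_of_surjective_openImmersion (f : X ⟶ Y) [IsOpenImmersion f] [Surjective f] :
    IsIso f := by
  haveI : Epi f.base := (TopCat.epi_iff_surjective _).mpr f.surjective
  exact IsOpenImmersion.isIso f

/-- Étale, universally injective and surjective is an isomorphism. -/
theorem isIso_of_etale (f : X ⟶ Y) [Etale f] [UniversallyInjective f] [Surjective f] : IsIso f := by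
  haveI : Surjective (pullback.diagonal f) := (UniversallyInjective.iff_diagonal f).mp ‹_›
  haveI : IsIso (pullback.diagonal f) := by
    haveI : IsOpenImmersion (pullback.diagonal f) := inferInstance
    exact isIso_of_surjective_openImmersion (pullback.diagonal f)
  haveI : Mono f := (pullback.isIso_diagonal_iff f).mp inferInstance
  haveI := IsOpenImmersion.of_flat_of_mono f
  exact isIso_of_surjective_openImmersion f

/-- Morphisms into étale schemes are determined after a surjective base change. -/
theorem eq_of_comp_eq {S : Scheme.{u}} (hX : X ⟶ S) [Etale hX] {Y' : Scheme.{u}} (q : Y' ⟶ Y)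
    [Surjective q] (φ₁ φ₂ : Y ⟶ X) (h : φ₁ ≫ hX = φ₂ ≫ hX) (he : q ≫ φ₁ = q ≫ φ₂) : φ₁ = φ₂ := by
  let p := pullback.fst (pullback.lift φ₁ φ₂ h) (pullback.diagonal hX)
  haveI : IsOpenImmersion p := inferInstance
  let t : Y' ⟶ pullback (pullback.lift φ₁ φ₂ h) (pullback.diagonal hX) :=
    pullback.lift q (q ≫ φ₁) (by apply pullback.hom_ext <;> simp [he])
  haveI : Surjective p := ⟨fun y => by
    obtain ⟨y', rfl⟩ := q.surjective y
    exact ⟨t y', by rw [← Scheme.Hom.comp_apply, pullback.lift_fst]⟩⟩
  haveI := isIso_of_surjective_openImmersion p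
  have h1 := congrArg (· ≫ pullback.fst hX hX) (pullback.condition (f := pullback.lift φ₁ φ₂ h) (g := pullback.diagonal hX))
  have h2 := congrArg (· ≫ pullback.snd hX hX) (pullback.condition (f := pullback.lift φ₁ φ₂ h) (g := pullback.diagonal hX))
  simp only [Category.assoc, pullback.lift_fst, pullback.lift_snd, pullback.diagonal_fst,
    pullback.diagonal_snd, Category.comp_id] at h1 h2
  exact (cancel_epi p).mp (h1.trans h2.symm)

/-- Morphisms into étale schemes descend along universal homeomorphisms. -/
theorem exists_desc {S : Scheme.{u}} (hX : X ⟶ S) [Etale hX] (hY : Y ⟶ S) {Y' : Scheme.{u}}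
    (q : Y' ⟶ Y) [IsIntegralHom q] [UniversallyInjective q] [Surjective q] (ψ : Y' ⟶ X)
    (h : ψ ≫ hX = q ≫ hY) : ∃ φ : Y ⟶ X, φ ≫ hX = hY ∧ q ≫ φ = ψ := by
  let p := pullback.fst hY hX
  let s : Y' ⟶ pullback hY hX := pullback.lift q ψ h.symm
  let σ : Y' ⟶ pullback q p := pullback.lift (𝟙 _) s (by simp [s, p])
  let k := pullback.snd q p
  haveI : Etale (pullback.fst q p) := inferInstance
  haveI : Etale (σ ≫ pullback.fst q p) := by
    rw [pullback.lift_fst]; infer_instance
  haveI : Etale σ := Etale.of_comp σ (pullback.fst q p)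
  haveI : Mono σ := by
    haveI : Mono (σ ≫ pullback.fst q p) := by rw [pullback.lift_fst]; infer_instance
    exact mono_of_mono σ (pullback.fst q p)
  haveI := IsOpenImmersion.of_flat_of_mono σ
  haveI : IsIntegralHom k := MorphismProperty.pullback_snd _ _ ‹_›
  haveI : Surjective k := MorphismProperty.pullback_snd (P := @Surjective) _ _ ‹_›
  haveI : UniversallyInjective k := MorphismProperty.pullback_snd _ _ ‹_›
  have hopen : IsOpen (Set.range s) := by
    have he : Set.range s = k '' Set.range σ := by
      rw [← Set.range_comp]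
      congr 1
      ext y
      show s y = k (σ y)
      rw [← Scheme.Hom.comp_apply, pullback.lift_snd]
    have hk : IsHomeomorph k := isHomeomorph_iff_continuous_isClosedMap_bijective.mpr
      ⟨k.continuous, k.isClosedMap, k.injective, k.surjective⟩
    rw [he]
    exact hk.isOpenMap _ σ.isOpenEmbedding.isOpen_range
  let O : (pullback hY hX).Opens := ⟨Set.range s, hopen⟩
  let a : Y' ⟶ O.toScheme := IsOpenImmersion.lift O.ι s (by rw [O.range_ι]; exact subset_rfl)
  have ha : a ≫ O.ι = s := IsOpenImmersion.lift_fac _ _ _
  haveI : Surjective a := ⟨fun z => by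
    obtain ⟨y, hy⟩ := z.2
    exact ⟨y, O.ι.isOpenEmbedding.injective (by rw [← Scheme.Hom.comp_apply, ha]; exact hy)⟩⟩
  let b := O.ι ≫ p
  have hab : a ≫ b = q := by rw [reassoc_of% ha, pullback.lift_fst]
  haveI : UniversallyInjective (a ≫ b) := by rw [hab]; infer_instance
  haveI : UniversallyInjective b := universallyInjective_of_precomp_surjective a b
  haveI : Surjective b := ⟨fun y => by
    obtain ⟨y', rfl⟩ := q.surjective y
    exact ⟨a y', by rw [← Scheme.Hom.comp_apply, hab]⟩⟩
  haveI : Etale b := inferInstance
  haveI := isIso_of_etale b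
  refine ⟨inv b ≫ O.ι ≫ pullback.snd hY hX, ?_, ?_⟩
  · rw [Category.assoc, Category.assoc, ← pullback.condition, ← Category.assoc O.ι,
      IsIso.inv_hom_id_assoc]
  · rw [← hab, Category.assoc, IsIso.hom_inv_id_assoc, reassoc_of% ha, pullback.lift_snd]

/-- Full faithfulness of base change along a universal homeomorphism on étale targets. -/
theorem bijective_pullback_map {S S' : Scheme.{u}} (g : S' ⟶ S) [IsIntegralHom g]
    [UniversallyInjective g] [Surjective g] (X Y : Over S) [Etale X.hom] :
    Function.Bijective (fun φ : Y ⟶ X => (Over.pullback g).map φ) := by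
  haveI : IsIntegralHom (pullback.fst Y.hom g) := MorphismProperty.pullback_fst _ _ ‹_›
  haveI : UniversallyInjective (pullback.fst Y.hom g) := MorphismProperty.pullback_fst _ _ ‹_›
  haveI : Surjective (pullback.fst Y.hom g) := MorphismProperty.pullback_fst _ _ ‹_›
  constructor
  · intro φ₁ φ₂ h
    have h' := congrArg (fun m => m.left ≫ pullback.fst X.hom g) h
    simp only [Over.pullback_map_left, pullback.lift_fst] at h'
    exact Over.OverMorphism.ext
      (eq_of_comp_eq X.hom (pullback.fst Y.hom g) φ₁.left φ₂.left (by simp) h')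
  · intro ψ
    obtain ⟨φ, hφ, hqφ⟩ := exists_desc X.hom Y.hom (pullback.fst Y.hom g)
      (ψ.left ≫ pullback.fst X.hom g) (by
        have := Over.w ψ
        simp only [Over.pullback_obj_hom] at this
        rw [Category.assoc, pullback.condition, reassoc_of% this, pullback.condition])
    refine ⟨Over.homMk φ hφ, Over.OverMorphism.ext ?_⟩
    apply pullback.hom_ext
    · simpa using hqφ
    · simpa using (Over.w ψ).symm

end Groth.Agent.TopInv
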