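import Mathlib
import Groth.Agent.Unibranch.Open
import Groth.Agent.EtaleSplit.Realize

set_option autoImplicit false
set_option backward.isDefEq.respectTransparency false
set_option backward.defeqAttrib.useBackward true
set_option linter.style.haveILetI false

/-!
# Finite unramified morphisms with a single rational point in a fibre
-/

open CategoryTheory CategoryTheory.Limits AlgebraicGeometry TensorProduct

universe u

namespace Groth.Agent.TopInv

theorem exists_range_smul {A B : Type u} [CommRing A] [CommRing B] [Algebra A B] [Module.Finite A B]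
    [Algebra.FormallyUnramified A B] (p : Ideal A) [p.IsPrime]
    (h : ∀ b : B, ∃ a c : A, c ∉ p ∧ ∀ Q : Ideal B, Q.IsPrime → Q.comap (algebraMap A B) = p →
      c • b - algebraMap A B a ∈ Q) :
    ∃ e ∉ p, ∀ b : B, e • b ∈ LinearMap.range (Algebra.linearMap A B) := by
  let K := p.ResidueField
  let M := B ⧸ LinearMap.range (Algebra.linearMap A B)
  haveI : IsArtinianRing (K ⊗[A] B) := IsArtinianRing.of_finite K _
  haveI : IsReduced (K ⊗[A] B) := Algebra.FormallyUnramified.isReduced_of_field K _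
  have hker : ∀ d : B, (∀ Q : Ideal B, Q.IsPrime → Q.comap (algebraMap A B) = p → d ∈ Q) →
      (1 : K) ⊗ₜ[A] d = 0 := by
    intro d hd
    refine IsReduced.eq_zero _ (nilpotent_iff_mem_prime.mpr fun P hP => ?_)
    haveI := hP
    refine hd (P.comap (Algebra.TensorProduct.includeRight : B →ₐ[A] K ⊗[A] B).toRingHom)
      (Ideal.comap_isPrime _ _) ?_
    ext a
    rw [Ideal.mem_comap, Ideal.mem_comap]
    show ((1 : K) ⊗ₜ[A] algebraMap A B a) ∈ P ↔ _
    rw [show (1 : K) ⊗ₜ[A] algebraMap A B a = algebraMap A (K ⊗[A] B) a from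
      (Algebra.TensorProduct.includeRight : B →ₐ[A] K ⊗[A] B).commutes a,
      IsScalarTower.algebraMap_apply A K (K ⊗[A] B), ← Ideal.algebraMap_residueField_eq_zero (I := p)]
    refine ⟨fun hm => ?_, fun h0 => by rw [h0, map_zero]; exact P.zero_mem⟩
    by_contra hne
    exact hP.ne_top (P.eq_top_of_isUnit_mem hm ((Ne.isUnit hne).map _))
  have hM : Subsingleton (K ⊗[A] M) := by
    refine subsingleton_of_forall_eq 0 fun z => ?_
    induction z using TensorProduct.induction_on with
    | zero => rfl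
    | add x y hx hy => rw [hx, hy, add_zero]
    | tmul k m =>
      obtain ⟨b, rfl⟩ := Submodule.Quotient.mk_surjective _ m
      obtain ⟨a, c, hc, hac⟩ := h b
      have h0 := congrArg (LinearMap.lTensor K (Submodule.mkQ (LinearMap.range (Algebra.linearMap A B))))
        (hker _ hac)
      rw [map_zero, LinearMap.lTensor_tmul, map_sub, map_smul,
        (Submodule.Quotient.mk_eq_zero _).mpr ⟨a, rfl⟩ |> fun hh => show
          Submodule.mkQ (LinearMap.range (Algebra.linearMap A B)) (algebraMap A B a) = 0 from hh,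
        sub_zero, TensorProduct.tmul_smul, TensorProduct.smul_tmul'] at h0
      have hu : algebraMap A K c ≠ 0 := by
        rw [Ne, Ideal.algebraMap_residueField_eq_zero]; exact hc
      have h1 := congrArg ((k * (algebraMap A K c)⁻¹) • ·) h0
      simp only [smul_zero, TensorProduct.smul_tmul', smul_eq_mul] at h1
      rw [Algebra.smul_def, mul_one, mul_assoc, inv_mul_cancel₀ hu, mul_one] at h1
      exact h1
  have hs : (⟨p, inferInstance⟩ : PrimeSpectrum A) ∉ Module.support A M := by
    rw [Module.mem_support_iff_nontrivial_residueField_tensorProduct]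
    exact not_nontrivial_iff_subsingleton.mpr hM
  rw [Module.support_eq_zeroLocus, PrimeSpectrum.mem_zeroLocus, SetLike.coe_subset_coe,
    SetLike.not_le_iff_exists] at hs
  obtain ⟨e, he, hep⟩ := hs
  refine ⟨e, hep, fun b => ?_⟩
  have := Module.mem_annihilator.mp he (Submodule.Quotient.mk b)
  rwa [← Submodule.Quotient.mk_smul, Submodule.Quotient.mk_eq_zero] at this

theorem exists_isClosedImmersion {X S : Scheme.{u}} (f : X ⟶ S) [IsFinite f] [FormallyUnramified f]
    (s : S) (x : X) (hx : f.base ⁻¹' {s} = {x})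
    (hκ : Function.Surjective (f.residueFieldMap x)) :
    ∃ U : S.Opens, s ∈ U ∧ IsClosedImmersion (f ∣_ U) := by
  have hfx : f x = s := by
    have : x ∈ f.base ⁻¹' {s} := hx ▸ rfl
    exact this
  subst hfx
  obtain ⟨_, ⟨U : S.Opens, hU, rfl⟩, hsU, -⟩ :=
    S.isBasis_affineOpens.exists_subset_of_mem_open (Set.mem_univ (f x)) isOpen_univ
  have hV : IsAffineOpen (f ⁻¹ᵁ U) := hU.preimage f
  algebraize [(f.app U).hom]
  haveI : Module.Finite Γ(S, U) Γ(X, f ⁻¹ᵁ U) :=
    RingHom.finite_algebraMap.mp (IsFinite.finite_app (f := f) U hU)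
  haveI : Algebra.FormallyUnramified Γ(S, U) Γ(X, f ⁻¹ᵁ U) := by
    refine RingHom.formallyUnramified_algebraMap.mp ?_
    have := f.formallyUnramified_appLE hU hV le_rfl
    rwa [← Scheme.Hom.app_eq_appLE] at this
  obtain ⟨e, he, hrange⟩ := exists_range_smul (hU.primeIdealOf ⟨f x, hsU⟩).asIdeal
    (B := Γ(X, f ⁻¹ᵁ U)) fun b => by
      obtain ⟨y, hy⟩ := hκ (X.evaluation (f ⁻¹ᵁ U) x hsU b)
      obtain ⟨c, a, hc, ha⟩ := EtaleSplit.evaluation_surj hU (f x) hsU 1 (fun _ => y)
      refine ⟨a 0, c, fun hcp => ?_, fun Q hQ hQp => ?_⟩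
      · refine hc ((S.evaluation_eq_zero_iff_notMem_basicOpen (f x) hsU c).mpr fun hb => ?_)
        have h1 : hU.primeIdealOf ⟨f x, hsU⟩ ∈ hU.fromSpec ⁻¹ᵁ S.basicOpen c := by
          show hU.fromSpec (hU.primeIdealOf ⟨f x, hsU⟩) ∈ S.basicOpen c
          rw [hU.fromSpec_primeIdealOf]; exact hb
        rw [hU.fromSpec_preimage_basicOpen] at h1
        exact h1 hcp
      · obtain ⟨z, rfl⟩ := Unibranch.exists_point_of_prime hV Q hQ
        have hz : z.1 = x := by
          have h1 := congr($(IsAffineOpen.comap_primeIdealOf_appLE U hU (f ⁻¹ᵁ U) hV le_rfl z.2).1)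
          rw [← Scheme.Hom.app_eq_appLE] at h1
          have h2 : f z.1 = f x := by
            have h3 := congrArg hU.fromSpec (PrimeSpectrum.ext (h1.symm.trans hQp))
            rwa [hU.fromSpec_primeIdealOf, hU.fromSpec_primeIdealOf] at h3
          have : z.1 ∈ f.base ⁻¹' {f x} := h2
          rw [hx] at this
          exact this
        by_contra hd
        have h4 : z.1 ∈ X.basicOpen (c • b - algebraMap Γ(S, U) Γ(X, f ⁻¹ᵁ U) (a 0)) := by
          have h1 : hV.primeIdealOf z ∈ hV.fromSpec ⁻¹ᵁ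
              X.basicOpen (c • b - algebraMap Γ(S, U) Γ(X, f ⁻¹ᵁ U) (a 0)) := by
            rw [hV.fromSpec_preimage_basicOpen]; exact hd
          have h2 : hV.fromSpec (hV.primeIdealOf z) ∈
              X.basicOpen (c • b - algebraMap Γ(S, U) Γ(X, f ⁻¹ᵁ U) (a 0)) := h1
          rwa [hV.fromSpec_primeIdealOf] at h2
        rw [hz] at h4
        refine absurd h4 ((X.evaluation_eq_zero_iff_notMem_basicOpen x hsU _).mp ?_)
        rw [map_sub, Algebra.smul_def, map_mul, sub_eq_zero]
        show X.evaluation (f ⁻¹ᵁ U) x hsU (f.app U c) * _ = X.evaluation (f ⁻¹ᵁ U) x hsU (f.app U (a 0))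
        rw [← Scheme.evaluation_naturality_apply f x hsU, ← Scheme.evaluation_naturality_apply f x hsU,
          ha 0, map_mul, hy]
  have heU : f x ∈ S.basicOpen e := by
    have h1 : hU.primeIdealOf ⟨f x, hsU⟩ ∈ hU.fromSpec ⁻¹ᵁ S.basicOpen e := by
      rw [hU.fromSpec_preimage_basicOpen]; exact he
    have h2 : hU.fromSpec (hU.primeIdealOf ⟨f x, hsU⟩) ∈ S.basicOpen e := h1
    rwa [hU.fromSpec_primeIdealOf] at h2
  refine ⟨S.basicOpen e, heU, ?_⟩
  haveI : IsAffine (S.basicOpen e).toScheme := hU.basicOpen e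
  have hW : IsAffineOpen (f ⁻¹ᵁ S.basicOpen e) := (hU.basicOpen e).preimage f
  haveI : IsAffine (f ⁻¹ᵁ S.basicOpen e).toScheme := hW
  have hsurj : Function.Surjective (f.app (S.basicOpen e)) := by
    intro z
    letI := (X.presheaf.map (homOfLE (f.preimage_mono (S.basicOpen_le e))).op).hom.toAlgebra
    haveI : IsLocalization.Away (f.app U e) Γ(X, f ⁻¹ᵁ S.basicOpen e) :=
      hV.isLocalization_of_eq_basicOpen (f.app U e) (homOfLE (f.preimage_mono (S.basicOpen_le e)))
        (Scheme.Hom.preimage_basicOpen f e)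
    obtain ⟨n, b, hb⟩ := IsLocalization.Away.surj (f.app U e) z
    obtain ⟨a, ha⟩ := hrange b
    let r := (S.presheaf.map (homOfLE (S.basicOpen_le e)).op)
    have hnat : ∀ t, f.app (S.basicOpen e) (r t) =
        algebraMap Γ(X, f ⁻¹ᵁ U) Γ(X, f ⁻¹ᵁ S.basicOpen e) (f.app U t) := fun t => by
      show (r ≫ f.app (S.basicOpen e)) t = (f.app U ≫ X.presheaf.map _) t
      rw [f.naturality]; rfl
    have hue : IsUnit (r e) := by
      letI := r.hom.toAlgebra
      haveI := hU.isLocalization_basicOpen e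
      exact IsLocalization.Away.algebraMap_isUnit (S := Γ(S, S.basicOpen e)) e
    refine ⟨r a * ↑(hue.unit⁻¹ ^ (n + 1)), ?_⟩
    have h1 : f.app (S.basicOpen e) (r a) =
        z * (f.app (S.basicOpen e) (r e)) ^ (n + 1) := by
      rw [hnat, hnat, show f.app U a = f.app U e * b from ha.trans (Algebra.smul_def e b), map_mul,
        ← hb]
      ring
    rw [map_mul, h1, ← map_pow, mul_assoc, ← map_mul, Units.val_pow_eq_pow_val, ← mul_pow,
      hue.mul_val_inv, one_pow, map_one, mul_one]
  refine IsClosedImmersion.of_surjective_of_isAffine _ ?_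
  rw [morphismRestrict_appTop]
  show Function.Surjective (fun a => (X.presheaf.map _) (f.app ((S.basicOpen e).ι ''ᵁ ⊤) a))
  refine Function.Surjective.comp (ConcreteCategory.bijective_of_isIso _).2 ?_
  rw [(S.basicOpen e).ι_image_top]
  exact hsurj

end Groth.Agent.TopInv
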