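import Groth.Agent.TopInv.Basic

set_option autoImplicit false
set_option backward.isDefEq.respectTransparency false
set_option linter.style.haveILetI false

/-!
# Morphisms into étale schemes descend along universally submersive-on-étale morphisms
-/

open CategoryTheory CategoryTheory.Limits AlgebraicGeometry

universe u

namespace Groth.Agent.TopInv

variable {X Y : Scheme.{u}}

/-- A morphism whose base change along a surjection is universally injective is universally
injective. -/
theorem universallyInjective_of_pullback_isIso {O Y' : Scheme.{u}} (q : Y' ⟶ Y) [Surjective q]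
    (b : O ⟶ Y) [IsIso (pullback.fst q b)] : UniversallyInjective b := by
  rw [UniversallyInjective.iff_diagonal]
  refine ⟨fun w => ?_⟩
  let M := pullback.fst (pullback.fst b b ≫ b) q
  haveI : Surjective M := MorphismProperty.pullback_fst _ _ ‹_›
  obtain ⟨z, hz⟩ := M.surjective w
  let y := pullback.snd (pullback.fst b b ≫ b) q
  have c : (M ≫ pullback.fst b b) ≫ b = y ≫ q := (Category.assoc _ _ _).trans pullback.condition
  have c' : (M ≫ pullback.snd b b) ≫ b = y ≫ q := by
    rw [Category.assoc, ← pullback.condition, ← Category.assoc, c]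
  have e : pullback.lift y (M ≫ pullback.fst b b) c.symm = pullback.lift y (M ≫ pullback.snd b b) c'.symm := by
    rw [← cancel_mono (pullback.fst q b), pullback.lift_fst, pullback.lift_fst]
  have e' : M ≫ pullback.fst b b = M ≫ pullback.snd b b := by
    simpa using congrArg (· ≫ pullback.snd q b) e
  refine ⟨(M ≫ pullback.fst b b) z, ?_⟩
  rw [← Scheme.Hom.comp_apply, show (M ≫ pullback.fst b b) ≫ pullback.diagonal b = M by
    apply pullback.hom_ext <;> simp [e'], hz]

/-- Morphisms into étale schemes descend along a surjection all of whose base changes to étale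
schemes are submersive, provided they agree on pairs of points over the same point. -/
theorem exists_desc_of_isQuotientMap {S : Scheme.{u}} (hX : X ⟶ S) [Etale hX] (hY : Y ⟶ S)
    {Y' : Scheme.{u}} (q : Y' ⟶ Y) [Surjective q]
    (hq : ∀ {Z : Scheme.{u}} (e : Z ⟶ Y), Etale e → Topology.IsQuotientMap (pullback.snd q e).base)
    (ψ : Y' ⟶ X) (h : ψ ≫ hX = q ≫ hY)
    (hψ : ∀ {T : Scheme.{u}} (a b : T ⟶ Y'), a ≫ q = b ≫ q → a ≫ ψ = b ≫ ψ) :
    ∃ φ : Y ⟶ X, φ ≫ hX = hY ∧ q ≫ φ = ψ := by
  let p := pullback.fst hY hX
  let s : Y' ⟶ pullback hY hX := pullback.lift q ψ h.symm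
  let σ : Y' ⟶ pullback q p := pullback.lift (𝟙 _) s (by simp [s, p])
  let k := pullback.snd q p
  haveI : Etale (pullback.fst q p) := inferInstance
  haveI : Etale (σ ≫ pullback.fst q p) := by
    rw [pullback.lift_fst]; infer_instance
  haveI : Etale σ := Etale.of_comp σ (pullback.fst q p)
  haveI : Mono σ := by
    haveI : Mono (σ ≫ pullback.fst q p) := by rw [pullback.lift_fst]; infer_instance
    exact mono_of_mono σ (pullback.fst q p)
  haveI := IsOpenImmersion.of_flat_of_mono σ
  have hσk : σ ≫ k = s := pullback.lift_snd _ _ _
  have hsat : k ⁻¹' Set.range s = Set.range σ := by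
    ext z
    constructor
    · rintro ⟨y, hy⟩
      obtain ⟨t, -, htz⟩ := Scheme.Pullback.exists_preimage_pullback (f := s) (g := k) y z hy
      let A := pullback.fst s k
      let B := pullback.snd s k
      have hAB : A ≫ q = (B ≫ pullback.fst q p) ≫ q := by
        rw [Category.assoc, pullback.condition (f := q) (g := p), show B ≫ k ≫ p = A ≫ s ≫ p from
          (reassoc_of% pullback.condition (f := s) (g := k)) p |>.symm, pullback.lift_fst]
      have h2 : A ≫ ψ = B ≫ k ≫ pullback.snd hY hX := by
        have := congrArg (· ≫ pullback.snd hY hX) (pullback.condition (f := s) (g := k))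
        simpa [A, B, s] using this
      have hB : (B ≫ pullback.fst q p) ≫ σ = B := by
        apply pullback.hom_ext
        · simp [σ]
        · rw [Category.assoc, Category.assoc, hσk]
          apply pullback.hom_ext
          · simp [s, k, p, pullback.condition]
          · simp only [s, Category.assoc, pullback.lift_snd]
            rw [← Category.assoc B, ← hψ A _ hAB, h2]
      exact ⟨(B ≫ pullback.fst q p) t, by rw [← Scheme.Hom.comp_apply, hB]; exact htz⟩
    · rintro ⟨y, rfl⟩
      exact ⟨y, by rw [← Scheme.Hom.comp_apply, hσk]⟩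
  have hopen : IsOpen (Set.range s) :=
    (hq p inferInstance).isOpen_preimage.1 (by
      show IsOpen (k ⁻¹' Set.range s)
      rw [hsat]
      exact σ.isOpenEmbedding.isOpen_range)
  let O : (pullback hY hX).Opens := ⟨Set.range s, hopen⟩
  let a : Y' ⟶ O.toScheme := IsOpenImmersion.lift O.ι s (by rw [O.range_ι]; exact subset_rfl)
  have ha : a ≫ O.ι = s := IsOpenImmersion.lift_fac _ _ _
  let b := O.ι ≫ p
  have hab : a ≫ b = q := by rw [reassoc_of% ha, pullback.lift_fst]
  haveI : Surjective b := ⟨fun y => by
    obtain ⟨y', rfl⟩ := q.surjective y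
    exact ⟨a y', by rw [← Scheme.Hom.comp_apply, hab]⟩⟩
  haveI : IsIso (pullback.fst q b) := by
    let j : Y' ⟶ pullback q b := pullback.lift (𝟙 _) a (by rw [Category.id_comp, hab])
    let r : pullback q b ⟶ pullback q p :=
      pullback.lift (pullback.fst q b) (pullback.snd q b ≫ O.ι) (by simp [b, pullback.condition])
    have hr : Set.range r ⊆ Set.range σ := by
      rintro _ ⟨z, rfl⟩
      rw [← hsat]
      show k (r z) ∈ Set.range s
      rw [← Scheme.Hom.comp_apply, pullback.lift_snd, Scheme.Hom.comp_apply]
      exact (pullback.snd q b z).2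
    have hl : IsOpenImmersion.lift σ r hr = pullback.fst q b := by
      have := congrArg (· ≫ pullback.fst q p) (IsOpenImmersion.lift_fac σ r hr)
      rw [Category.assoc, pullback.lift_fst, Category.comp_id, pullback.lift_fst] at this
      exact this
    have hfac := IsOpenImmersion.lift_fac σ r hr
    rw [hl] at hfac
    refine ⟨⟨j, ?_, pullback.lift_fst _ _ _⟩⟩
    apply pullback.hom_ext
    · simp [j]
    · rw [← cancel_mono O.ι]
      have := congrArg (· ≫ k) hfac
      simp only [Category.assoc, hσk] at this
      simp only [j, Category.assoc, pullback.lift_snd_assoc, ha, Category.id_comp]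
      rw [this, pullback.lift_snd]
  haveI : UniversallyInjective b := universallyInjective_of_pullback_isIso q b
  haveI : Etale b := inferInstance
  haveI := isIso_of_etale b
  refine ⟨inv b ≫ O.ι ≫ pullback.snd hY hX, ?_, ?_⟩
  · rw [Category.assoc, Category.assoc, ← pullback.condition, ← Category.assoc O.ι,
      IsIso.inv_hom_id_assoc]
  · rw [← hab, Category.assoc, IsIso.hom_inv_id_assoc, reassoc_of% ha, pullback.lift_snd]

end Groth.Agent.TopInv
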